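import Groth.Agent.NormalTensor.Henselian
import Groth.Agent.S4433
import Mathlib.RingTheory.DedekindDomain.IntegralClosure
import Mathlib.RingTheory.DiscreteValuationRing.TFAE

/-!
# The algebraic closure of a henselian trait's fraction field in a dominating local domain is finite
-/

set_option autoImplicit false
set_option linter.unusedSectionVars false
set_option linter.style.haveILetI false
set_option backward.isDefEq.respectTransparency false
set_option maxHeartbeats 1000000

universe u

open IsLocalRing Polynomial

noncomputable section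

namespace Groth.Agent.MilnorNoethLib

theorem isAlgClosed_of_perfect_sepClosed (k : Type*) [Field k] [PerfectField k] [IsSepClosed k] : IsAlgClosed k :=
  IsAlgClosed.of_exists_root _ fun p _ hirr =>
    IsSepClosed.exists_root p (Irreducible.degree_pos hirr).ne' (PerfectField.separable_of_irreducible hirr)

/-- A finite extension of a trait with the same residue field has degree at most the ramification index. -/
theorem finrank_le {V V' : Type u} [CommRing V] [IsLocalRing V] [IsDomain V] [IsPrincipalIdealRing V] [CommRing V']
    [IsLocalRing V'] [Algebra V V'] [Module.Finite V V'] [Module.Free V V'] {π : V}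
    (hπm : π ∈ maximalIdeal V) {ϖ u : V'} (hu : IsUnit u) {e : ℕ}
    (he : algebraMap V V' π = u * ϖ ^ e)
    (hres : ∀ x : V', ∃ v : V, x - algebraMap V V' v ∈ Ideal.span {ϖ}) : Module.finrank V V' ≤ e := by
  let f : Fin e → V' := fun i => ϖ ^ (i : ℕ)
  have step : ∀ j, j ≤ e → ∀ x : V', ∃ z ∈ Submodule.span V (Set.range f), ∃ y : V', x = z + ϖ ^ j * y := by
    intro j
    induction j with
    | zero => exact fun _ x => ⟨0, zero_mem _, x, by rw [pow_zero, one_mul, zero_add]⟩
    | succ j ih =>
      intro hj x
      obtain ⟨z, hz, y, rfl⟩ := ih (Nat.le_of_succ_le hj) x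
      obtain ⟨v, hv⟩ := hres y
      obtain ⟨w, hw⟩ := Ideal.mem_span_singleton'.1 hv
      refine ⟨z + v • ϖ ^ j, add_mem hz (Submodule.smul_mem _ _ (Submodule.subset_span ⟨⟨j, hj⟩, rfl⟩)), w, ?_⟩
      rw [Algebra.smul_def, pow_succ, show y = w * ϖ + algebraMap V V' v by rw [hw, sub_add_cancel]]
      ring
  have hle : (⊤ : Submodule V V') ≤ Submodule.span V (Set.range f) := by
    refine Submodule.le_of_le_smul_of_le_jacobson_bot (I := maximalIdeal V) Module.Finite.fg_top
      (IsLocalRing.maximalIdeal_le_jacobson ⊥) ?_
    intro x _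
    obtain ⟨z, hz, y, rfl⟩ := step e le_rfl x
    refine Submodule.add_mem_sup hz ?_
    obtain ⟨u', rfl⟩ := hu
    rw [show ϖ ^ e * y = π • ((↑u'⁻¹ : V') * y) by
      rw [Algebra.smul_def, he, mul_comm (u' : V') (ϖ ^ e), mul_assoc, ← mul_assoc (u' : V'), Units.mul_inv, one_mul]]
    exact Submodule.smul_mem_smul hπm Submodule.mem_top
  calc Module.finrank V V' = Module.finrank V (⊤ : Submodule V V') := finrank_top V V' |>.symm
    _ ≤ Module.finrank V (Submodule.span V (Set.range f)) := by rw [top_le_iff.1 hle]
    _ ≤ Fintype.card (Fin e) := finrank_range_le_card f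
    _ = e := Fintype.card_fin e

/-- The closure is finite. -/
theorem exists_closure {V : Type u} [CommRing V] [IsDomain V] [IsDiscreteValuationRing V] [HenselianLocalRing V]
    [IsSepClosed (ResidueField V)] [PerfectField (ResidueField V)] [CharZero V]
    {K : Type u} [Field K] [Algebra V K] [IsFractionRing V K]
    {B : Type u} [CommRing B] [IsDomain B] [IsNoetherianRing B] [IsLocalRing B] [Algebra V B]
    [IsLocalHom (algebraMap V B)]
    {F : Type u} [Field F] [Algebra B F] [IsFractionRing B F] [Algebra K F] [Algebra V F] [IsScalarTower V B F]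
    [IsScalarTower V K F] :
    ∃ E : IntermediateField K F, FiniteDimensional K E ∧ ∀ x : F, IsIntegral K x → x ∈ E := by
  haveI := isAlgClosed_of_perfect_sepClosed (ResidueField V)
  obtain ⟨π, hπ⟩ := IsDiscreteValuationRing.exists_irreducible V
  have hπm : π ∈ maximalIdeal V := hπ.not_isUnit
  have hinjVB : Function.Injective (algebraMap V B) := by
    intro a b hab
    have h1 := congrArg (algebraMap B F) hab
    rw [← IsScalarTower.algebraMap_apply, ← IsScalarTower.algebraMap_apply, IsScalarTower.algebraMap_apply V K F,
      IsScalarTower.algebraMap_apply V K F b] at h1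
    exact IsFractionRing.injective V K ((algebraMap K F).injective h1)
  have hB : ¬ IsField B := fun hf => by
    letI := hf.toField
    have h0 : algebraMap V B π ≠ 0 := (map_ne_zero_iff _ hinjVB).2 hπ.ne_zero
    exact hπ.not_isUnit (isUnit_of_map_unit (algebraMap V B) π (isUnit_iff_ne_zero.2 h0))
  obtain ⟨W, hW, hBW, hmW⟩ := Groth.Agent.S4433.result B hB F F (by
    refine ⟨∅, le_antisymm le_top ?_⟩
    intro x _
    exact IntermediateField.algebraMap_mem _ x)
  haveI := hW
  have hπW : algebraMap V F π ∈ W := by rw [IsScalarTower.algebraMap_apply V B F]; exact hBW _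
  let πW : W := ⟨algebraMap V F π, hπW⟩
  have hπW0 : πW ≠ 0 := fun h => hπ.ne_zero (by
    have h1 : algebraMap V F π = 0 := congrArg Subtype.val h
    rw [IsScalarTower.algebraMap_apply V K F, map_eq_zero_iff _ (algebraMap K F).injective,
      map_eq_zero_iff _ (IsFractionRing.injective V K)] at h1
    exact h1)
  have hπWm : ¬ IsUnit πW := fun h => by
    have hlt := hmW (algebraMap V B π) (fun h' => hπ.not_isUnit (isUnit_of_map_unit (algebraMap V B) π h'))
    rw [← IsScalarTower.algebraMap_apply] at hlt
    exact hlt.ne ((W.valuation_eq_one_iff πW).1 h)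
  obtain ⟨N, hN⟩ : ∃ N, πW ∉ maximalIdeal W ^ N := by
    by_contra h
    push_neg at h
    have h1 : πW ∈ ⨅ n, maximalIdeal W ^ n := Submodule.mem_iInf _ |>.2 h
    rw [Ideal.iInf_pow_eq_bot_of_isLocalRing _ (maximalIdeal.isMaximal W).ne_top, Ideal.mem_bot] at h1
    exact hπW0 h1
  have hbound : ∀ E : IntermediateField K F, FiniteDimensional K E → Module.finrank K E ≤ N := by
    intro E hE
    haveI := hE
    haveI : CharZero K := charZero_of_injective_algebraMap (IsFractionRing.injective V K)
    let V' := integralClosure V E
    haveI : IsScalarTower V K E := IsScalarTower.of_algebraMap_eq fun v => Subtype.ext (IsScalarTower.algebraMap_apply V K F v)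
    haveI : Algebra.IsSeparable K E := inferInstance
    haveI : Module.Finite V V' := IsIntegralClosure.finite V K E V'
    haveI : IsDedekindDomain V' := integralClosure.isDedekindDomain V K E
    haveI : IsLocalRing V' := NormalTensor.isLocalRing_of_finite_domain V V'
    haveI : Module.IsTorsionFree V E := .trans_faithfulSMul V K E
    haveI : Module.IsTorsionFree V V' := IsIntegralClosure.isTorsionFree V E
    haveI : IsScalarTower V E F := IsScalarTower.of_algebraMap_eq fun v =>
      (IsScalarTower.algebraMap_apply V K F v).trans (by rw [IsScalarTower.algebraMap_apply V K E v, ← IsScalarTower.algebraMap_apply K E F])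
    haveI : Module.Free V V' := Module.free_of_finite_type_torsion_free'
    haveI : IsFractionRing V' E := integralClosure.isFractionRing_of_finite_extension K E
    have hmem : ∀ x : V', ((x : E) : F) ∈ W := fun x => by
      have hx : IsIntegral V ((x : E) : F) := x.2.map (IsScalarTower.toAlgHom V E F)
      letI : Algebra V W := ((algebraMap B F).comp (algebraMap V B)).codRestrict W.toSubring (fun v => hBW _) |>.toAlgebra
      haveI : IsScalarTower V W F := IsScalarTower.of_algebraMap_eq fun v => IsScalarTower.algebraMap_apply V B F v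
      obtain ⟨y, hy⟩ := IsIntegrallyClosed.isIntegral_iff.1 (hx.tower_top (A := W))
      exact hy ▸ y.2
    let g : V' →+* W := (((algebraMap E F).comp (algebraMap V' E))).codRestrict W.toSubring hmem
    have hgπ : g (algebraMap V V' π) = πW := Subtype.ext (by
      show algebraMap E F (algebraMap V' E (algebraMap V V' π)) = algebraMap V F π
      rw [← IsScalarTower.algebraMap_apply V V' E, IsScalarTower.algebraMap_apply V K E,
        ← IsScalarTower.algebraMap_apply K E F, ← IsScalarTower.algebraMap_apply V K F])
    have hπ'u : ¬ IsUnit (algebraMap V V' π) := fun h => hπWm (hgπ ▸ h.map g)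
    have hπ'0 : algebraMap V V' π ≠ 0 := fun h => hπW0 (hgπ ▸ by rw [h, map_zero])
    have hnf : ¬ IsField V' := fun hf => by
      letI := hf.toField
      exact hπ'u (isUnit_iff_ne_zero.2 hπ'0)
    have htf := (IsDiscreteValuationRing.TFAE V' hnf).out 0 2
    haveI : IsDiscreteValuationRing V' := htf.2 ‹IsDedekindDomain V'›
    obtain ⟨ϖ, hϖ⟩ := IsDiscreteValuationRing.exists_irreducible V'
    obtain ⟨e, u, hu⟩ := IsDiscreteValuationRing.eq_unit_mul_pow_irreducible hπ'0 hϖ
    have hres : ∀ x : V', ∃ v : V, x - algebraMap V V' v ∈ Ideal.span {ϖ} := by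
      haveI : IsLocalHom (algebraMap V V') := ⟨fun a ha => by
        by_contra hna
        have : a ∈ Ideal.span {π} := by
          rw [← (IsDiscreteValuationRing.irreducible_iff_uniformizer π).1 hπ]
          exact hna
        obtain ⟨c, rfl⟩ := Ideal.mem_span_singleton'.1 this
        rw [map_mul] at ha
        exact hπ'u (isUnit_of_mul_isUnit_right ha)⟩
      intro x
      haveI : Module.Finite V (ResidueField V') := Module.Finite.trans V' (ResidueField V')
      haveI : Module.Finite (ResidueField V) (ResidueField V') := Module.Finite.of_restrictScalars_finite V _ _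
      haveI : Algebra.IsIntegral (ResidueField V) (ResidueField V') := Algebra.IsIntegral.of_finite (ResidueField V) (ResidueField V')
      obtain ⟨y, hy⟩ := IsAlgClosed.algebraMap_bijective_of_isIntegral (k := ResidueField V) (K := ResidueField V') |>.2
        (residue V' x)
      obtain ⟨v, rfl⟩ := residue_surjective y
      refine ⟨v, ?_⟩
      rw [← (IsDiscreteValuationRing.irreducible_iff_uniformizer ϖ).1 hϖ, ← residue_eq_zero_iff, map_sub, ← hy]
      exact sub_self _
    have hd : Module.finrank V V' ≤ e := finrank_le hπm u.isUnit hu hres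
    have hfr : Module.finrank K E = Module.finrank V V' := by
      haveI : IsLocalization (Algebra.algebraMapSubmonoid V' (nonZeroDivisors V)) E :=
        IsIntegralClosure.isLocalization V K E V'
      let b := Module.Free.chooseBasis V V'
      rw [Module.finrank_eq_card_basis b, Module.finrank_eq_card_basis (b.localizationLocalization K (nonZeroDivisors V) E)]
    have he : e ≤ N := by
      by_contra hlt
      refine hN ?_
      rw [← hgπ, hu, map_mul, map_pow]
      refine Ideal.mul_mem_left _ _ (Ideal.pow_le_pow_right (le_of_not_ge hlt) (Ideal.pow_mem_pow ?_ e))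
      intro hgu
      apply hπWm
      rw [← hgπ, hu, map_mul, map_pow]
      exact (u.isUnit.map g).mul (hgu.pow e)
    omega
  let S : Set ℕ := {n | ∃ E : IntermediateField K F, FiniteDimensional K E ∧ Module.finrank K E = n}
  have hS : BddAbove S := ⟨N, fun n ⟨E, hE, h⟩ => h ▸ hbound E hE⟩
  have hne : S.Nonempty := ⟨1, ⊥, inferInstance, IntermediateField.finrank_bot⟩
  obtain ⟨E, hE, hEn⟩ := Nat.sSup_mem hne hS
  haveI := hE
  refine ⟨E, hE, fun x hx => ?_⟩
  haveI := IntermediateField.adjoin.finiteDimensional hx
  let E' := E ⊔ IntermediateField.adjoin K {x}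
  have h1 : Module.finrank K E' ≤ Module.finrank K E := hEn ▸ le_csSup hS ⟨E', inferInstance, rfl⟩
  have h2 : E = E' := IntermediateField.eq_of_le_of_finrank_le le_sup_left h1
  rw [h2]
  exact (le_sup_right : IntermediateField.adjoin K {x} ≤ E') (IntermediateField.subset_adjoin K _ rfl)

end Groth.Agent.MilnorNoethLib
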