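import Mathlib

/-!
# Noetherianity of `L ⊗ R` for an algebraic extension `L` of `K`

In characteristic zero it suffices that in every residue field of `R` the algebraic closure of `K` is finite.
-/

set_option autoImplicit false
set_option linter.unusedSectionVars false
set_option linter.style.haveILetI false
set_option backward.isDefEq.respectTransparency false
set_option maxHeartbeats 1000000

universe u

open TensorProduct Polynomial

noncomputable section

namespace Groth.Agent.MilnorNoethLib

/-- `K` is algebraically closed in `F`. -/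
def ClosedIn (K F : Type u) [Field K] [Field F] [Algebra K F] : Prop :=
  ∀ x : F, IsIntegral K x → x ∈ (algebraMap K F).range

/-- The tensor product with a finite separable extension is a domain. -/
theorem isDomain_tensor_finite {K F M : Type u} [Field K] [Field F] [Algebra K F] [Field M] [Algebra K M]
    [FiniteDimensional K M] [Algebra.IsSeparable K M] (hK : ClosedIn K F) : IsDomain (F ⊗[K] M) := by
  obtain ⟨θ, hθ⟩ := Field.exists_primitive_element K M
  let Ω := AlgebraicClosure F
  haveI : Algebra.IsAlgebraic K M := Algebra.IsAlgebraic.of_finite K M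
  let j : M →ₐ[K] Ω := IsAlgClosed.lift
  let Φ : F ⊗[K] M →ₐ[F] Ω := Algebra.TensorProduct.lift (Algebra.ofId F Ω) j fun _ _ => Commute.all _ _
  have hΦ : ∀ m, Φ (1 ⊗ₜ m) = j m := fun m => by simp [Φ]
  have hθF : IsIntegral F (j θ) := (Algebra.IsIntegral.isIntegral (R := K) θ).map j |>.tower_top
  let g := minpoly F (j θ)
  have hf : (minpoly K θ).Monic := minpoly.monic (Algebra.IsIntegral.isIntegral θ)
  have hg : g.Monic := minpoly.monic hθF
  have hdvd : g ∣ (minpoly K θ).map (algebraMap K F) := by
    refine minpoly.dvd F _ ?_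
    rw [aeval_map_algebraMap, aeval_algHom_apply, minpoly.aeval, map_zero]
  obtain ⟨g₀, hg₀, hdeg, hmon⟩ := lifts_and_natDegree_eq_and_monic
    ((lifts_iff_coeff_lifts g).2 fun i => hK _ (isIntegral_coeff_of_dvd (minpoly K θ) g hf hg hdvd i)) hg
  have hle : (minpoly K θ).natDegree ≤ g.natDegree := by
    rw [← hdeg]
    refine natDegree_le_of_dvd (minpoly.dvd K θ ((map_eq_zero_iff j (j : M →+* Ω).injective).1 ?_)) hmon.ne_zero
    rw [← aeval_algHom_apply, ← aeval_map_algebraMap (R := K) (A := F), hg₀]
    exact minpoly.aeval F (j θ)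
  have hrange : g.natDegree ≤ Module.finrank F (LinearMap.range Φ.toLinearMap) := by
    rw [← IntermediateField.adjoin.finrank hθF]
    haveI : FiniteDimensional F (IntermediateField.adjoin F {j θ}) := IntermediateField.adjoin.finiteDimensional hθF
    refine Submodule.finrank_mono (s := (IntermediateField.adjoin F {j θ}).toSubalgebra.toSubmodule)
      (t := LinearMap.range Φ.toLinearMap) ?_
    intro y hy
    rw [Subalgebra.mem_toSubmodule, IntermediateField.adjoin_simple_toSubalgebra_of_isAlgebraic hθF.isAlgebraic,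
      Algebra.adjoin_singleton_eq_range_aeval] at hy
    obtain ⟨p, rfl⟩ := hy
    exact ⟨aeval (1 ⊗ₜ θ : F ⊗[K] M) p, by
      show Φ (aeval (1 ⊗ₜ θ : F ⊗[K] M) p) = _
      rw [← aeval_algHom_apply, hΦ]
      rfl⟩
  have hdim : Module.finrank F (F ⊗[K] M) = (minpoly K θ).natDegree := by
    rw [Module.finrank_baseChange, ← (Field.primitive_element_iff_minpoly_natDegree_eq K θ).1 hθ]
  have hinj : Function.Injective Φ := by
    have h := Φ.toLinearMap.finrank_range_add_finrank_ker
    have hk : Module.finrank F (LinearMap.ker Φ.toLinearMap) = 0 := by omega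
    exact LinearMap.ker_eq_bot.1 (Submodule.finrank_eq_zero.1 hk)
  exact hinj.isDomain

/-- Two elements coming from a finite subextension multiply to zero only if one vanishes. -/
theorem eq_zero_of_mul_aux {K F L M : Type u} [Field K] [Field F] [Algebra K F] [Field L] [Algebra K L] [Field M]
    [Algebra K M] [FiniteDimensional K M] [Algebra.IsSeparable K M] (hK : ClosedIn K F) (g : M →ₐ[K] L)
    (S T : Finset (F × L)) (hS : ∀ p ∈ S, p.2 ∈ g.range) (hT : ∀ p ∈ T, p.2 ∈ g.range)
    (h : (∑ p ∈ S, p.1 ⊗ₜ[K] p.2) * (∑ p ∈ T, p.1 ⊗ₜ[K] p.2) = 0) :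
    (∑ p ∈ S, p.1 ⊗ₜ[K] p.2) = 0 ∨ (∑ p ∈ T, p.1 ⊗ₜ[K] p.2) = 0 := by
  haveI := isDomain_tensor_finite (M := M) hK
  let ι : F ⊗[K] M →ₐ[F] F ⊗[K] L := Algebra.TensorProduct.map (AlgHom.id F F) g
  have hι : Function.Injective ι := Module.Flat.lTensor_preserves_injective_linearMap (M := F)
    g.toLinearMap g.injective
  have hlift : ∀ (U : Finset (F × L)), (∀ p ∈ U, p.2 ∈ g.range) → (∑ p ∈ U, p.1 ⊗ₜ[K] p.2) ∈ ι.range := by
    intro U hU
    refine sum_mem fun p hp => ?_
    obtain ⟨m, hm⟩ := hU p hp
    refine ⟨p.1 ⊗ₜ m, ?_⟩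
    show p.1 ⊗ₜ[K] g m = _
    rw [show g m = p.2 from hm]
  obtain ⟨a, ha⟩ := hlift S hS
  obtain ⟨b, hb⟩ := hlift T hT
  rw [← ha, ← hb] at h ⊢
  have : a * b = 0 := hι (by rw [map_mul, map_zero]; exact h)
  exact (mul_eq_zero.1 this).imp (fun h' => by rw [h', map_zero]) (fun h' => by rw [h', map_zero])

/-- The tensor product with an algebraic extension is a domain. -/
theorem isDomain_tensor {K F L : Type u} [Field K] [CharZero K] [Field F] [Algebra K F] [Field L] [Algebra K L]
    [Algebra.IsAlgebraic K L] (hK : ClosedIn K F) : IsDomain (F ⊗[K] L) := by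
  classical
  haveI : Nontrivial (F ⊗[K] L) := inferInstance
  haveI : NoZeroDivisors (F ⊗[K] L) := by
    refine ⟨fun {x y} hxy => ?_⟩
    obtain ⟨S, rfl⟩ := TensorProduct.exists_finset x
    obtain ⟨T, rfl⟩ := TensorProduct.exists_finset y
    let M := IntermediateField.adjoin K ((S.image Prod.snd ∪ T.image Prod.snd : Finset L) : Set L)
    haveI : FiniteDimensional K M :=
      IntermediateField.finiteDimensional_adjoin fun z _ => Algebra.IsIntegral.isIntegral z
    exact eq_zero_of_mul_aux (M := M) hK M.val S T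
      (fun p hp => ⟨⟨p.2, IntermediateField.subset_adjoin K _
        (Finset.mem_coe.2 (Finset.mem_union_left _ (Finset.mem_image_of_mem _ hp)))⟩, rfl⟩)
      (fun p hp => ⟨⟨p.2, IntermediateField.subset_adjoin K _
        (Finset.mem_coe.2 (Finset.mem_union_right _ (Finset.mem_image_of_mem _ hp)))⟩, rfl⟩) hxy
  exact NoZeroDivisors.to_isDomain _

/-- The algebraic closure of `K` in every residue field of `R` is finite. -/
def FiniteClosures (K R : Type u) [Field K] [CommRing R] [Algebra K R] : Prop :=
  ∀ (p : Ideal R) [p.IsPrime], ∃ E : IntermediateField K p.ResidueField, FiniteDimensional K E ∧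
    ∀ x : p.ResidueField, IsIntegral K x → x ∈ E

/-- A prime whose residue field below has a finite algebraic closure of `K` is finitely generated. -/
theorem fg_of_closure {K R L E : Type u} [Field K] [CharZero K] [CommRing R] [IsNoetherianRing R] [Algebra K R]
    [Field L] [IsAlgClosed L] [Algebra K L] [Algebra.IsAlgebraic K L] [Field E] [Algebra K E] [FiniteDimensional K E]
    (P : Ideal (L ⊗[K] R)) [P.IsPrime]
    (ε : E →ₐ[K] (P.comap (Algebra.TensorProduct.includeRight : R →ₐ[K] L ⊗[K] R)).ResidueField)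
    (hEc : ∀ x, IsIntegral K x → x ∈ ε.range) : P.FG := by
  let iR : R →ₐ[K] L ⊗[K] R := Algebra.TensorProduct.includeRight
  let p := P.comap iR
  letI : Algebra E p.ResidueField := ε.toRingHom.toAlgebra
  haveI : IsScalarTower K E p.ResidueField := IsScalarTower.of_algebraMap_eq fun k => (ε.commutes k).symm
  let π : L ⊗[K] R →ₐ[K] P.ResidueField := IsScalarTower.toAlgHom K _ _
  have h1 : p ≤ RingHom.ker (π.comp iR) := fun r hr => by
    rw [RingHom.mem_ker]
    exact (Ideal.algebraMap_residueField_eq_zero (I := P) (x := iR r)).2 hr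
  have h2 : p.primeCompl ≤ (IsUnit.submonoid P.ResidueField).comap (π.comp iR) := fun r hr =>
    isUnit_iff_ne_zero.2 fun h0 => hr ((Ideal.algebraMap_residueField_eq_zero (I := P) (x := iR r)).1 h0)
  let φ : p.ResidueField →ₐ[K] P.ResidueField := Ideal.ResidueField.liftₐ p (π.comp iR) h1 h2
  have hφ : ∀ r, φ (algebraMap R p.ResidueField r) = π (iR r) := fun r =>
    Ideal.ResidueField.lift_algebraMap _ _ h1 h2 r
  let iL : L →ₐ[K] P.ResidueField := π.comp Algebra.TensorProduct.includeLeft
  have hiL : Function.Injective iL := iL.toRingHom.injective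
  haveI : Algebra.IsAlgebraic K E := Algebra.IsAlgebraic.of_finite K E
  have hmem : ∀ y : E, φ (ε y) ∈ iL.range := fun y => by
    have hy : IsIntegral K (ε y) := (Algebra.IsIntegral.isIntegral (R := K) y).map ε
    have hsplit : ((minpoly K (ε y)).map (algebraMap K L)).Splits := IsAlgClosed.splits _
    refine hsplit.mem_range_of_isRoot (i := iL.toRingHom) ((minpoly.monic hy).map _).ne_zero ?_
    rw [IsRoot, eval_map, eval₂_map]
    have : iL.toRingHom.comp (algebraMap K L) = algebraMap K P.ResidueField := RingHom.ext iL.commutes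
    rw [this, ← aeval_def, aeval_algHom_apply, minpoly.aeval, map_zero]
  let j : E →ₐ[K] L := (AlgEquiv.ofInjective iL hiL).symm.toAlgHom.comp
    ((φ.comp ε).codRestrict iL.range hmem)
  have hj : ∀ y, iL (j y) = φ (ε y) := fun y =>
    congrArg Subtype.val ((AlgEquiv.ofInjective iL hiL).apply_symm_apply ((φ.comp ε).codRestrict iL.range hmem y))
  letI : Algebra E L := j.toRingHom.toAlgebra
  haveI : IsScalarTower K E L := IsScalarTower.of_algebraMap_eq fun k => (j.commutes k).symm
  haveI : Algebra.IsAlgebraic E L := Algebra.IsAlgebraic.tower_top (K := K) E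
  haveI : CharZero E := charZero_of_injective_algebraMap (algebraMap K E).injective
  let R₁ := E ⊗[K] R
  haveI : IsNoetherianRing R₁ := by
    haveI : Algebra.FiniteType R (R ⊗[K] E) := inferInstance
    haveI : IsNoetherianRing (R ⊗[K] E) := Algebra.FiniteType.isNoetherianRing R _
    exact isNoetherianRing_of_ringEquiv _ (Algebra.TensorProduct.comm K R E).toRingEquiv
  let ψ : R₁ →ₐ[E] p.ResidueField :=
    Algebra.TensorProduct.lift (Algebra.ofId E p.ResidueField) (IsScalarTower.toAlgHom K R p.ResidueField)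
      fun _ _ => Commute.all _ _
  let e : L ⊗[E] R₁ ≃ₐ[L] L ⊗[K] R := Algebra.TensorProduct.cancelBaseChange K E L L R
  suffices hP' : (P.comap e.toRingEquiv.toRingHom).FG by
    have h2 := hP'.map e.toRingEquiv.toRingHom
    exact (Ideal.map_comap_of_surjective e.toRingEquiv.toRingHom e.surjective P) ▸ h2
  let P' : Ideal (L ⊗[E] R₁) := P.comap e.toRingEquiv.toRingHom
  haveI : P'.IsPrime := Ideal.IsPrime.comap _
  let iR₁ : R₁ →ₐ[E] L ⊗[E] R₁ := Algebra.TensorProduct.includeRight
  let m : L ⊗[E] R₁ →ₐ[L] L ⊗[E] p.ResidueField := Algebra.TensorProduct.map (AlgHom.id L L) ψ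
  haveI : IsDomain (L ⊗[E] p.ResidueField) := by
    have hclosed : ClosedIn E p.ResidueField := fun x hx => by
      have hxK : IsIntegral K x := isIntegral_trans (R := K) x hx
      exact hEc x hxK
    haveI := isDomain_tensor (L := L) hclosed
    exact (Algebra.TensorProduct.comm E L p.ResidueField).injective.isDomain
  haveI : (RingHom.ker m).IsPrime := RingHom.ker_isPrime m
  have hcomp : ∀ z : R₁, φ (ψ z) = π (e (iR₁ z)) := fun z => by
    induction z using TensorProduct.induction_on with
    | zero => simp only [map_zero]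
    | tmul y r =>
      have e1 : ψ (y ⊗ₜ r) = ε y * algebraMap R p.ResidueField r := by
        show Algebra.TensorProduct.lift _ _ _ (y ⊗ₜ r) = _
        rw [Algebra.TensorProduct.lift_tmul]
        rfl
      have e2 : e (iR₁ (y ⊗ₜ r)) = j y ⊗ₜ[K] r := by
        show Algebra.TensorProduct.cancelBaseChange K E L L R ((1 : L) ⊗ₜ[E] (y ⊗ₜ[K] r)) = _
        rw [Algebra.TensorProduct.cancelBaseChange_tmul, Algebra.smul_def, mul_one]
        rfl
      rw [e1, e2, map_mul, hφ, ← hj, show j y ⊗ₜ[K] r = (j y ⊗ₜ[K] (1 : R)) * ((1 : L) ⊗ₜ[K] r) by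
        rw [Algebra.TensorProduct.tmul_mul_tmul, mul_one, one_mul], map_mul]
      rfl
    | add y z hy hz => simp only [map_add, hy, hz]
  have hP1 : RingHom.ker ψ = P'.comap iR₁ := by
    ext z
    rw [RingHom.mem_ker, Ideal.mem_comap]
    show _ ↔ e (iR₁ z) ∈ P
    rw [← Ideal.algebraMap_residueField_eq_zero (I := P)]
    show _ ↔ π (e (iR₁ z)) = 0
    rw [← hcomp]
    exact (map_eq_zero_iff φ (φ : p.ResidueField →+* P.ResidueField).injective).symm
  have hker : RingHom.ker m = (RingHom.ker ψ).map iR₁ := by
    refine le_antisymm ?_ (Ideal.map_le_iff_le_comap.2 fun z hz => ?_)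
    · intro z hz
      let D := R₁ ⧸ RingHom.ker ψ
      let q : R₁ →ₐ[E] D := Ideal.Quotient.mkₐ E _
      let ψ' : D →ₐ[E] p.ResidueField := Ideal.Quotient.liftₐ _ ψ fun a ha => ha
      have hψ' : Function.Injective ψ' := by
        refine (injective_iff_map_eq_zero _).2 fun a ha => ?_
        obtain ⟨a, rfl⟩ := Ideal.Quotient.mk_surjective a
        exact Ideal.Quotient.eq_zero_iff_mem.2 ha
      have hz' : Algebra.TensorProduct.map (AlgHom.id E L) q z = 0 := by
        apply Module.Flat.lTensor_preserves_injective_linearMap (M := L) ψ'.toLinearMap hψ'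
        rw [map_zero]
        have key : ∀ w, (ψ'.toLinearMap.lTensor L) (Algebra.TensorProduct.map (AlgHom.id E L) q w) = m w := by
          intro w
          induction w using TensorProduct.induction_on with
          | zero => simp only [map_zero]
          | tmul a b => rfl
          | add a b ha hb => simp only [map_add, ha, hb]
        rw [key]
        exact hz
      have h1 : z ∈ RingHom.ker (Algebra.TensorProduct.map (AlgHom.id E L) q) := hz'
      rw [Algebra.TensorProduct.lTensor_ker q Ideal.Quotient.mk_surjective] at h1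
      refine Ideal.map_mono (le_of_eq ?_) h1
      exact Ideal.mk_ker
    · show m (iR₁ z) = 0
      show (1 : L) ⊗ₜ[E] ψ z = 0
      rw [RingHom.mem_ker.1 hz, tmul_zero]
  have hle : RingHom.ker m ≤ P' := by
    rw [hker, hP1]
    exact Ideal.map_comap_le
  have heq : P' = RingHom.ker m := by
    by_contra hne
    obtain ⟨x, hxP, hx⟩ := SetLike.exists_of_lt (lt_of_le_of_ne hle (Ne.symm hne))
    letI : Algebra R₁ (L ⊗[E] R₁) := Algebra.TensorProduct.rightAlgebra
    haveI : Algebra.IsIntegral E L := inferInstance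
    have hint : IsIntegral R₁ x := by
      clear hxP hx
      induction x using TensorProduct.induction_on with
      | zero => exact isIntegral_zero
      | tmul a b =>
        rw [show a ⊗ₜ[E] b = (Algebra.TensorProduct.includeLeft (S := E) a : L ⊗[E] R₁) * algebraMap R₁ (L ⊗[E] R₁) b by
          show _ = (a ⊗ₜ[E] (1 : R₁)) * ((1 : L) ⊗ₜ[E] b)
          rw [Algebra.TensorProduct.tmul_mul_tmul, mul_one, one_mul]]
        refine IsIntegral.mul ?_ isIntegral_algebraMap
        haveI : IsScalarTower E R₁ (L ⊗[E] R₁) := IsScalarTower.of_algebraMap_eq fun y => by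
          show _ = (1 : L) ⊗ₜ[E] algebraMap E R₁ y
          rw [Algebra.TensorProduct.algebraMap_apply, Algebra.algebraMap_eq_smul_one (A := R₁), tmul_smul,
            smul_tmul', ← Algebra.algebraMap_eq_smul_one]
        exact ((Algebra.IsIntegral.isIntegral (R := E) a).map Algebra.TensorProduct.includeLeft).tower_top
      | add a b ha hb => exact ha.add hb
    have hlt := Ideal.comap_lt_comap_of_integral_mem_sdiff (R := R₁) hle ⟨hxP, hx⟩ hint
    refine hlt.ne (le_antisymm hlt.le ?_)
    intro z hz
    show iR₁ z ∈ RingHom.ker m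
    rw [hker]
    refine Ideal.mem_map_of_mem _ ?_
    rw [hP1]
    exact hz
  show P'.FG
  rw [heq, hker]
  exact Ideal.FG.map (IsNoetherian.noetherian _) _

/-- The criterion. -/
theorem isNoetherianRing_tensor {K R L : Type u} [Field K] [CharZero K] [CommRing R] [IsNoetherianRing R]
    [Algebra K R] [Field L] [IsAlgClosed L] [Algebra K L] [Algebra.IsAlgebraic K L] (h : FiniteClosures K R) :
    IsNoetherianRing (L ⊗[K] R) := by
  refine IsNoetherianRing.of_prime fun P hP => ?_
  haveI := hP
  obtain ⟨E, hE, hEc⟩ := h (P.comap (Algebra.TensorProduct.includeRight : R →ₐ[K] L ⊗[K] R))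
  haveI := hE
  exact fg_of_closure P E.val fun x hx => ⟨⟨x, hEc x hx⟩, rfl⟩

end Groth.Agent.MilnorNoethLib
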