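import Groth.Agent.MilnorNoethLib.Criterion
import Groth.Agent.MilnorNoethLib.Bound

/-!
# The algebraic Milnor fibre is noetherian
-/

set_option autoImplicit false
set_option linter.unusedSectionVars false
set_option linter.style.haveILetI false
set_option backward.isDefEq.respectTransparency false
set_option maxHeartbeats 1000000

universe u

open IsLocalRing TensorProduct

noncomputable section

namespace Groth.Agent.MilnorNoethLib

variable {V : Type u} [CommRing V] [IsDomain V] [IsDiscreteValuationRing V] [HenselianLocalRing V]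
  [IsSepClosed (ResidueField V)] [PerfectField (ResidueField V)] [CharZero V]
  {B : Type u} [CommRing B] [IsLocalRing B] [IsNoetherianRing B] [Algebra V B] [IsLocalHom (algebraMap V B)]

/-- In the generic fibre of a dominating local ring the algebraic closures are finite. -/
theorem finiteClosures {K : Type u} [Field K] [Algebra V K] [IsFractionRing V K] : FiniteClosures K (K ⊗[V] B) := by
  intro p _
  let iB : B →ₐ[V] K ⊗[V] B := Algebra.TensorProduct.includeRight
  let q := p.comap iB
  haveI : q.IsPrime := Ideal.IsPrime.comap _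
  haveI : Nontrivial (B ⧸ q) := Ideal.Quotient.nontrivial_iff.2 (Ideal.IsPrime.ne_top inferInstance)
  haveI : IsLocalRing (B ⧸ q) := IsLocalRing.of_surjective' (Ideal.Quotient.mk q) Ideal.Quotient.mk_surjective
  haveI : IsLocalHom (algebraMap V (B ⧸ q)) := by
    haveI : IsLocalHom (Ideal.Quotient.mk q) := IsLocalHom.of_surjective _ Ideal.Quotient.mk_surjective
    rw [IsScalarTower.algebraMap_eq V B (B ⧸ q)]
    exact RingHom.isLocalHom_comp _ _
  let f : B →+* p.ResidueField := (algebraMap (K ⊗[V] B) p.ResidueField).comp iB.toRingHom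
  let g : B ⧸ q →+* p.ResidueField := Ideal.Quotient.lift q f fun b hb =>
    (Ideal.algebraMap_residueField_eq_zero (I := p)).2 hb
  letI : Algebra (B ⧸ q) p.ResidueField := g.toAlgebra
  haveI : IsScalarTower V (B ⧸ q) p.ResidueField := IsScalarTower.of_algebraMap_eq fun v => by
    show algebraMap V p.ResidueField v = g (Ideal.Quotient.mk q (algebraMap V B v))
    rw [IsScalarTower.algebraMap_apply V (K ⊗[V] B) p.ResidueField]
    exact congrArg _ (iB.commutes v).symm
  have hinj : Function.Injective (algebraMap (B ⧸ q) p.ResidueField) := by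
    refine (injective_iff_map_eq_zero _).2 fun b hb => ?_
    obtain ⟨b, rfl⟩ := Ideal.Quotient.mk_surjective b
    exact Ideal.Quotient.eq_zero_iff_mem.2 ((Ideal.algebraMap_residueField_eq_zero (I := p)).1 hb)
  haveI : FaithfulSMul (B ⧸ q) p.ResidueField := (faithfulSMul_iff_algebraMap_injective _ _).2 hinj
  haveI : IsFractionRing (B ⧸ q) p.ResidueField := by
    refine IsFractionRing.of_field _ _ fun z => ?_
    obtain ⟨x, y, hy, rfl⟩ := IsFractionRing.div_surjective (A := (K ⊗[V] B) ⧸ p) z
    obtain ⟨x, rfl⟩ := Ideal.Quotient.mk_surjective x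
    obtain ⟨y, rfl⟩ := Ideal.Quotient.mk_surjective y
    have key : ∀ r : K ⊗[V] B, ∃ (v : V) (b : B), v ≠ 0 ∧ algebraMap V (K ⊗[V] B) v * r = iB b := by
      intro r
      induction r using TensorProduct.induction_on with
      | zero => exact ⟨1, 0, one_ne_zero, by rw [mul_zero, map_zero]⟩
      | tmul c b =>
        obtain ⟨⟨a, s⟩, hs⟩ := IsLocalization.surj (nonZeroDivisors V) c
        refine ⟨s, a • b, nonZeroDivisors.ne_zero s.2, ?_⟩
        show _ = (1 : K) ⊗ₜ[V] (a • b)
        rw [Algebra.TensorProduct.algebraMap_apply, Algebra.TensorProduct.tmul_mul_tmul, one_mul, mul_comm, hs,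
          tmul_smul, Algebra.algebraMap_eq_smul_one, ← smul_tmul']
      | add a b ha hb =>
        obtain ⟨v₁, b₁, h₁, e₁⟩ := ha
        obtain ⟨v₂, b₂, h₂, e₂⟩ := hb
        refine ⟨v₁ * v₂, algebraMap V B v₂ * b₁ + algebraMap V B v₁ * b₂, mul_ne_zero h₁ h₂, ?_⟩
        simp only [map_add, map_mul, AlgHom.commutes, ← e₁, ← e₂]
        ring
    obtain ⟨v₁, b₁, h₁, e₁⟩ := key x
    obtain ⟨v₂, b₂, h₂, e₂⟩ := key y
    have hne : ∀ v : V, v ≠ 0 → algebraMap (K ⊗[V] B) p.ResidueField (algebraMap V _ v) ≠ 0 := fun v hv => by
      rw [IsScalarTower.algebraMap_apply V K (K ⊗[V] B), ← IsScalarTower.algebraMap_apply K (K ⊗[V] B) p.ResidueField]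
      exact (map_ne_zero _).2 ((map_ne_zero_iff _ (IsFractionRing.injective V K)).2 hv)
    refine ⟨Ideal.Quotient.mk q (algebraMap V B v₂ * b₁), Ideal.Quotient.mk q (algebraMap V B v₁ * b₂), ?_⟩
    show algebraMap (K ⊗[V] B) p.ResidueField x / algebraMap (K ⊗[V] B) p.ResidueField y =
      algebraMap (K ⊗[V] B) p.ResidueField (iB (algebraMap V B v₂ * b₁)) /
        algebraMap (K ⊗[V] B) p.ResidueField (iB (algebraMap V B v₁ * b₂))
    rw [map_mul iB, map_mul iB, iB.commutes, iB.commutes, ← e₁, ← e₂, map_mul, map_mul, map_mul, map_mul]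
    rw [← mul_assoc, ← mul_assoc, mul_comm (algebraMap _ p.ResidueField (algebraMap V _ v₂)) _,
      mul_div_mul_left _ _ (mul_ne_zero (hne _ h₁) (hne _ h₂))]
  exact exists_closure (V := V) (K := K) (B := B ⧸ q) (F := p.ResidueField)

/-- The geometric generic fibre of a noetherian local ring over the trait is noetherian. -/
theorem isNoetherianRing_milnorFibre {L : Type u} [Field L] [IsAlgClosed L] [Algebra V L] [FaithfulSMul V L]
    [Algebra.IsAlgebraic V L] : IsNoetherianRing (L ⊗[V] B) := by
  let K := FractionRing V
  letI : Algebra K L := (IsFractionRing.lift (FaithfulSMul.algebraMap_injective V L) : K →+* L).toAlgebra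
  haveI : IsScalarTower V K L :=
    IsScalarTower.of_algebraMap_eq fun v => (IsFractionRing.lift_algebraMap (FaithfulSMul.algebraMap_injective V L) v).symm
  haveI : CharZero K := charZero_of_injective_algebraMap (IsFractionRing.injective V K)
  haveI : Algebra.IsAlgebraic K L := Algebra.IsAlgebraic.extendScalars (R := V) (IsFractionRing.injective V K)
  haveI : IsNoetherianRing (K ⊗[V] B) := by
    letI : Algebra B (K ⊗[V] B) := Algebra.TensorProduct.rightAlgebra
    exact IsLocalization.isNoetherianRing (Algebra.algebraMapSubmonoid B (nonZeroDivisors V)) (K ⊗[V] B) inferInstance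
  haveI := isNoetherianRing_tensor (L := L) (finiteClosures (V := V) (B := B) (K := K))
  exact isNoetherianRing_of_ringEquiv _ (Algebra.TensorProduct.cancelBaseChange V K L L B).toRingEquiv

theorem finite_connectedComponents_of_noetherian (T : Type*) [TopologicalSpace T] [TopologicalSpace.NoetherianSpace T] :
    Finite (ConnectedComponents T) := by
  classical
  haveI : Finite (irreducibleComponents T) := TopologicalSpace.NoetherianSpace.finite_irreducibleComponents.to_subtype
  refine Finite.of_surjective
    (fun C : irreducibleComponents T => ConnectedComponents.mk (Classical.choose C.2.1.nonempty)) fun c => ?_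
  obtain ⟨x, rfl⟩ := ConnectedComponents.surjective_coe c
  refine ⟨⟨irreducibleComponent x, irreducibleComponent_mem_irreducibleComponents x⟩, ?_⟩
  refine ConnectedComponents.coe_eq_coe'.2 ?_
  exact (isIrreducible_irreducibleComponent (x := x)).isConnected.isPreconnected.subset_connectedComponent
    mem_irreducibleComponent (Classical.choose_spec _)

end Groth.Agent.MilnorNoethLib
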